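import Cfsg.Agent.Helper10.SchJ3.Tab

set_option autoImplicit false
set_option linter.all false
set_option maxRecDepth 1000000
set_option maxHeartbeats 0

namespace Cfsg.Agent.Helper10.SchJ3

theorem okR8 : OKR (8 * 4032) 4032 := by decide +kernel
theorem okR9 : OKR (9 * 4032) 4032 := by decide +kernel
theorem okR10 : OKR (10 * 4032) 4032 := by decide +kernel
theorem okR11 : OKR (11 * 4032) 4032 := by decide +kernel
theorem okR12 : OKR (12 * 4032) 4032 := by decide +kernel
theorem okR13 : OKR (13 * 4032) 4032 := by decide +kernel
theorem okR14 : OKR (14 * 4032) 4032 := by decide +kernel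
theorem okR15 : OKR (15 * 4032) 4032 := by decide +kernel

end Cfsg.Agent.Helper10.SchJ3
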