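import Cfsg.Agent.Helper10.SchJ3.Tab

set_option autoImplicit false
set_option linter.all false
set_option maxRecDepth 1000000
set_option maxHeartbeats 0

namespace Cfsg.Agent.Helper10.SchJ3

theorem okR96 : OKR (96 * 4032) 4032 := by decide +kernel
theorem okR97 : OKR (97 * 4032) 4032 := by decide +kernel
theorem okR98 : OKR (98 * 4032) 4032 := by decide +kernel
theorem okR99 : OKR (99 * 4032) 4032 := by decide +kernel
theorem okR100 : OKR (100 * 4032) 4032 := by decide +kernel
theorem okR101 : OKR (101 * 4032) 4032 := by decide +kernel
theorem okR102 : OKR (102 * 4032) 4032 := by decide +kernel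
theorem okR103 : OKR (103 * 4032) 4032 := by decide +kernel

end Cfsg.Agent.Helper10.SchJ3
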