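import Cfsg.Agent.Helper10.SchJ3.Tab

set_option autoImplicit false
set_option linter.all false
set_option maxRecDepth 1000000
set_option maxHeartbeats 0

namespace Cfsg.Agent.Helper10.SchJ3

theorem okR120 : OKR (120 * 4032) 4032 := by decide +kernel
theorem okR121 : OKR (121 * 4032) 4032 := by decide +kernel
theorem okR122 : OKR (122 * 4032) 4032 := by decide +kernel
theorem okR123 : OKR (123 * 4032) 4032 := by decide +kernel
theorem okR124 : OKR (124 * 4032) 4032 := by decide +kernel
theorem okR125 : OKR (125 * 4032) 4032 := by decide +kernel
theorem okR126 : OKR (126 * 4032) 4032 := by decide +kernel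
theorem okR127 : OKR (127 * 4032) 4032 := by decide +kernel

end Cfsg.Agent.Helper10.SchJ3
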