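import Cfsg.Agent.Helper10.SchJ3.Tab

set_option autoImplicit false
set_option linter.all false
set_option maxRecDepth 1000000
set_option maxHeartbeats 0

namespace Cfsg.Agent.Helper10.SchJ3

theorem okR136 : OKR (136 * 4032) 4032 := by decide +kernel
theorem okR137 : OKR (137 * 4032) 4032 := by decide +kernel
theorem okR138 : OKR (138 * 4032) 4032 := by decide +kernel
theorem okR139 : OKR (139 * 4032) 4032 := by decide +kernel
theorem okR140 : OKR (140 * 4032) 4032 := by decide +kernel
theorem okR141 : OKR (141 * 4032) 4032 := by decide +kernel
theorem okR142 : OKR (142 * 4032) 4032 := by decide +kernel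
theorem okR143 : OKR (143 * 4032) 4032 := by decide +kernel

end Cfsg.Agent.Helper10.SchJ3
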