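import Cfsg.Agent.Helper10.SchJ3.Tab

set_option autoImplicit false
set_option linter.all false
set_option maxRecDepth 1000000
set_option maxHeartbeats 0

namespace Cfsg.Agent.Helper10.SchJ3

theorem okR160 : OKR (160 * 4032) 4032 := by decide +kernel
theorem okR161 : OKR (161 * 4032) 4032 := by decide +kernel
theorem okR162 : OKR (162 * 4032) 4032 := by decide +kernel
theorem okR163 : OKR (163 * 4032) 4032 := by decide +kernel
theorem okR164 : OKR (164 * 4032) 4032 := by decide +kernel
theorem okR165 : OKR (165 * 4032) 4032 := by decide +kernel
theorem okR166 : OKR (166 * 4032) 4032 := by decide +kernel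
theorem okR167 : OKR (167 * 4032) 4032 := by decide +kernel

end Cfsg.Agent.Helper10.SchJ3
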