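import Cfsg.Agent.Helper10.SchJ3.Tab

set_option autoImplicit false
set_option linter.all false
set_option maxRecDepth 1000000
set_option maxHeartbeats 0

namespace Cfsg.Agent.Helper10.SchJ3

theorem okR184 : OKR (184 * 4032) 4032 := by decide +kernel
theorem okR185 : OKR (185 * 4032) 4032 := by decide +kernel
theorem okR186 : OKR (186 * 4032) 4032 := by decide +kernel
theorem okR187 : OKR (187 * 4032) 4032 := by decide +kernel
theorem okR188 : OKR (188 * 4032) 4032 := by decide +kernel
theorem okR189 : OKR (189 * 4032) 4032 := by decide +kernel
theorem okR190 : OKR (190 * 4032) 4032 := by decide +kernel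
theorem okR191 : OKR (191 * 4032) 4032 := by decide +kernel

end Cfsg.Agent.Helper10.SchJ3
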