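import Cfsg.Agent.Helper10.SchJ3.Tab

set_option autoImplicit false
set_option linter.all false
set_option maxRecDepth 1000000
set_option maxHeartbeats 0

namespace Cfsg.Agent.Helper10.SchJ3

theorem okR208 : OKR (208 * 4032) 4032 := by decide +kernel
theorem okR209 : OKR (209 * 4032) 4032 := by decide +kernel
theorem okR210 : OKR (210 * 4032) 4032 := by decide +kernel
theorem okR211 : OKR (211 * 4032) 4032 := by decide +kernel
theorem okR212 : OKR (212 * 4032) 4032 := by decide +kernel
theorem okR213 : OKR (213 * 4032) 4032 := by decide +kernel
theorem okR214 : OKR (214 * 4032) 4032 := by decide +kernel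
theorem okR215 : OKR (215 * 4032) 4032 := by decide +kernel

end Cfsg.Agent.Helper10.SchJ3
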