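import Cfsg.Agent.Helper10.SchJ3.Tab

set_option autoImplicit false
set_option linter.all false
set_option maxRecDepth 1000000
set_option maxHeartbeats 0

namespace Cfsg.Agent.Helper10.SchJ3

theorem okR216 : OKR (216 * 4032) 4032 := by decide +kernel
theorem okR217 : OKR (217 * 4032) 4032 := by decide +kernel
theorem okR218 : OKR (218 * 4032) 4032 := by decide +kernel
theorem okR219 : OKR (219 * 4032) 4032 := by decide +kernel
theorem okR220 : OKR (220 * 4032) 4032 := by decide +kernel
theorem okR221 : OKR (221 * 4032) 4032 := by decide +kernel
theorem okR222 : OKR (222 * 4032) 4032 := by decide +kernel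
theorem okR223 : OKR (223 * 4032) 4032 := by decide +kernel

end Cfsg.Agent.Helper10.SchJ3
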