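import Cfsg.Agent.Helper10.SchJ3.Tab

set_option autoImplicit false
set_option linter.all false
set_option maxRecDepth 1000000
set_option maxHeartbeats 0

namespace Cfsg.Agent.Helper10.SchJ3

theorem okR232 : OKR (232 * 4032) 4032 := by decide +kernel
theorem okR233 : OKR (233 * 4032) 4032 := by decide +kernel
theorem okR234 : OKR (234 * 4032) 4032 := by decide +kernel
theorem okR235 : OKR (235 * 4032) 4032 := by decide +kernel
theorem okR236 : OKR (236 * 4032) 4032 := by decide +kernel
theorem okR237 : OKR (237 * 4032) 4032 := by decide +kernel
theorem okR238 : OKR (238 * 4032) 4032 := by decide +kernel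
theorem okR239 : OKR (239 * 4032) 4032 := by decide +kernel

end Cfsg.Agent.Helper10.SchJ3
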