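import Cfsg.Agent.Helper10.SchJ3.Tab

set_option autoImplicit false
set_option linter.all false
set_option maxRecDepth 1000000
set_option maxHeartbeats 0

namespace Cfsg.Agent.Helper10.SchJ3

theorem okR24 : OKR (24 * 4032) 4032 := by decide +kernel
theorem okR25 : OKR (25 * 4032) 4032 := by decide +kernel
theorem okR26 : OKR (26 * 4032) 4032 := by decide +kernel
theorem okR27 : OKR (27 * 4032) 4032 := by decide +kernel
theorem okR28 : OKR (28 * 4032) 4032 := by decide +kernel
theorem okR29 : OKR (29 * 4032) 4032 := by decide +kernel
theorem okR30 : OKR (30 * 4032) 4032 := by decide +kernel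
theorem okR31 : OKR (31 * 4032) 4032 := by decide +kernel

end Cfsg.Agent.Helper10.SchJ3
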