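import Cfsg.Agent.Helper10.SchJ3.Tab

set_option autoImplicit false
set_option linter.all false
set_option maxRecDepth 1000000
set_option maxHeartbeats 0

namespace Cfsg.Agent.Helper10.SchJ3

theorem okR272 : OKR (272 * 4032) 4032 := by decide +kernel
theorem okR273 : OKR (273 * 4032) 4032 := by decide +kernel
theorem okR274 : OKR (274 * 4032) 4032 := by decide +kernel
theorem okR275 : OKR (275 * 4032) 4032 := by decide +kernel
theorem okR276 : OKR (276 * 4032) 4032 := by decide +kernel
theorem okR277 : OKR (277 * 4032) 4032 := by decide +kernel
theorem okR278 : OKR (278 * 4032) 4032 := by decide +kernel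
theorem okR279 : OKR (279 * 4032) 4032 := by decide +kernel

end Cfsg.Agent.Helper10.SchJ3
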