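import Cfsg.Agent.Helper10.SchJ3.Tab

set_option autoImplicit false
set_option linter.all false
set_option maxRecDepth 1000000
set_option maxHeartbeats 0

namespace Cfsg.Agent.Helper10.SchJ3

theorem okR280 : OKR (280 * 4032) 4032 := by decide +kernel
theorem okR281 : OKR (281 * 4032) 4032 := by decide +kernel
theorem okR282 : OKR (282 * 4032) 4032 := by decide +kernel
theorem okR283 : OKR (283 * 4032) 4032 := by decide +kernel
theorem okR284 : OKR (284 * 4032) 4032 := by decide +kernel
theorem okR285 : OKR (285 * 4032) 4032 := by decide +kernel
theorem okR286 : OKR (286 * 4032) 4032 := by decide +kernel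
theorem okR287 : OKR (287 * 4032) 4032 := by decide +kernel

end Cfsg.Agent.Helper10.SchJ3
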