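import Cfsg.Agent.Helper10.SchJ3.Tab

set_option autoImplicit false
set_option linter.all false
set_option maxRecDepth 1000000
set_option maxHeartbeats 0

namespace Cfsg.Agent.Helper10.SchJ3

theorem okR304 : OKR (304 * 4032) 4032 := by decide +kernel
theorem okR305 : OKR (305 * 4032) 4032 := by decide +kernel
theorem okR306 : OKR (306 * 4032) 4032 := by decide +kernel
theorem okR307 : OKR (307 * 4032) 4032 := by decide +kernel
theorem okR308 : OKR (308 * 4032) 4032 := by decide +kernel
theorem okR309 : OKR (309 * 4032) 4032 := by decide +kernel
theorem okR310 : OKR (310 * 4032) 4032 := by decide +kernel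
theorem okR311 : OKR (311 * 4032) 4032 := by decide +kernel

end Cfsg.Agent.Helper10.SchJ3
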