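import Cfsg.Agent.Helper10.SchJ3.Tab

set_option autoImplicit false
set_option linter.all false
set_option maxRecDepth 1000000
set_option maxHeartbeats 0

namespace Cfsg.Agent.Helper10.SchJ3

theorem okR312 : OKR (312 * 4032) 4032 := by decide +kernel
theorem okR313 : OKR (313 * 4032) 4032 := by decide +kernel
theorem okR314 : OKR (314 * 4032) 4032 := by decide +kernel
theorem okR315 : OKR (315 * 4032) 4032 := by decide +kernel
theorem okR316 : OKR (316 * 4032) 4032 := by decide +kernel
theorem okR317 : OKR (317 * 4032) 4032 := by decide +kernel
theorem okR318 : OKR (318 * 4032) 4032 := by decide +kernel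
theorem okR319 : OKR (319 * 4032) 4032 := by decide +kernel

end Cfsg.Agent.Helper10.SchJ3
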