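import Cfsg.Agent.Helper10.SchJ3.Tab

set_option autoImplicit false
set_option linter.all false
set_option maxRecDepth 1000000
set_option maxHeartbeats 0

namespace Cfsg.Agent.Helper10.SchJ3

theorem okR32 : OKR (32 * 4032) 4032 := by decide +kernel
theorem okR33 : OKR (33 * 4032) 4032 := by decide +kernel
theorem okR34 : OKR (34 * 4032) 4032 := by decide +kernel
theorem okR35 : OKR (35 * 4032) 4032 := by decide +kernel
theorem okR36 : OKR (36 * 4032) 4032 := by decide +kernel
theorem okR37 : OKR (37 * 4032) 4032 := by decide +kernel
theorem okR38 : OKR (38 * 4032) 4032 := by decide +kernel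
theorem okR39 : OKR (39 * 4032) 4032 := by decide +kernel

end Cfsg.Agent.Helper10.SchJ3
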