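import Cfsg.Agent.Helper10.SchJ3.Tab

set_option autoImplicit false
set_option linter.all false
set_option maxRecDepth 1000000
set_option maxHeartbeats 0

namespace Cfsg.Agent.Helper10.SchJ3

theorem okR320 : OKR (320 * 4032) 4032 := by decide +kernel
theorem okR321 : OKR (321 * 4032) 4032 := by decide +kernel
theorem okR322 : OKR (322 * 4032) 4032 := by decide +kernel
theorem okR323 : OKR (323 * 4032) 4032 := by decide +kernel
theorem okR324 : OKR (324 * 4032) 4032 := by decide +kernel
theorem okR325 : OKR (325 * 4032) 4032 := by decide +kernel
theorem okR326 : OKR (326 * 4032) 4032 := by decide +kernel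
theorem okR327 : OKR (327 * 4032) 4032 := by decide +kernel

end Cfsg.Agent.Helper10.SchJ3
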