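import Cfsg.Agent.Helper10.SchJ3.Tab

set_option autoImplicit false
set_option linter.all false
set_option maxRecDepth 1000000
set_option maxHeartbeats 0

namespace Cfsg.Agent.Helper10.SchJ3

theorem okR328 : OKR (328 * 4032) 4032 := by decide +kernel
theorem okR329 : OKR (329 * 4032) 4032 := by decide +kernel
theorem okR330 : OKR (330 * 4032) 4032 := by decide +kernel
theorem okR331 : OKR (331 * 4032) 4032 := by decide +kernel
theorem okR332 : OKR (332 * 4032) 4032 := by decide +kernel
theorem okR333 : OKR (333 * 4032) 4032 := by decide +kernel
theorem okR334 : OKR (334 * 4032) 4032 := by decide +kernel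
theorem okR335 : OKR (335 * 4032) 4032 := by decide +kernel

end Cfsg.Agent.Helper10.SchJ3
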