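import Cfsg.Agent.Helper10.SchJ3.Tab

set_option autoImplicit false
set_option linter.all false
set_option maxRecDepth 1000000
set_option maxHeartbeats 0

namespace Cfsg.Agent.Helper10.SchJ3

theorem okR336 : OKR (336 * 4032) 4032 := by decide +kernel
theorem okR337 : OKR (337 * 4032) 4032 := by decide +kernel
theorem okR338 : OKR (338 * 4032) 4032 := by decide +kernel
theorem okR339 : OKR (339 * 4032) 4032 := by decide +kernel
theorem okR340 : OKR (340 * 4032) 4032 := by decide +kernel
theorem okR341 : OKR (341 * 4032) 4032 := by decide +kernel
theorem okR342 : OKR (342 * 4032) 4032 := by decide +kernel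
theorem okR343 : OKR (343 * 4032) 4032 := by decide +kernel

end Cfsg.Agent.Helper10.SchJ3
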