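import Cfsg.Agent.Helper10.SchJ3.Tab

set_option autoImplicit false
set_option linter.all false
set_option maxRecDepth 1000000
set_option maxHeartbeats 0

namespace Cfsg.Agent.Helper10.SchJ3

theorem okR352 : OKR (352 * 4032) 4032 := by decide +kernel
theorem okR353 : OKR (353 * 4032) 4032 := by decide +kernel
theorem okR354 : OKR (354 * 4032) 4032 := by decide +kernel
theorem okR355 : OKR (355 * 4032) 4032 := by decide +kernel
theorem okR356 : OKR (356 * 4032) 4032 := by decide +kernel
theorem okR357 : OKR (357 * 4032) 4032 := by decide +kernel
theorem okR358 : OKR (358 * 4032) 4032 := by decide +kernel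
theorem okR359 : OKR (359 * 4032) 4032 := by decide +kernel

end Cfsg.Agent.Helper10.SchJ3
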