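import Cfsg.Agent.Helper10.SchJ3.Tab

set_option autoImplicit false
set_option linter.all false
set_option maxRecDepth 1000000
set_option maxHeartbeats 0

namespace Cfsg.Agent.Helper10.SchJ3

theorem okR360 : OKR (360 * 4032) 4032 := by decide +kernel
theorem okR361 : OKR (361 * 4032) 4032 := by decide +kernel
theorem okR362 : OKR (362 * 4032) 4032 := by decide +kernel
theorem okR363 : OKR (363 * 4032) 4032 := by decide +kernel
theorem okR364 : OKR (364 * 4032) 4032 := by decide +kernel
theorem okR365 : OKR (365 * 4032) 4032 := by decide +kernel
theorem okR366 : OKR (366 * 4032) 4032 := by decide +kernel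
theorem okR367 : OKR (367 * 4032) 4032 := by decide +kernel

end Cfsg.Agent.Helper10.SchJ3
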