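import Cfsg.Agent.Helper10.SchJ3.Tab

set_option autoImplicit false
set_option linter.all false
set_option maxRecDepth 1000000
set_option maxHeartbeats 0

namespace Cfsg.Agent.Helper10.SchJ3

theorem okR368 : OKR (368 * 4032) 4032 := by decide +kernel
theorem okR369 : OKR (369 * 4032) 4032 := by decide +kernel
theorem okR370 : OKR (370 * 4032) 4032 := by decide +kernel
theorem okR371 : OKR (371 * 4032) 4032 := by decide +kernel
theorem okR372 : OKR (372 * 4032) 4032 := by decide +kernel
theorem okR373 : OKR (373 * 4032) 4032 := by decide +kernel
theorem okR374 : OKR (374 * 4032) 4032 := by decide +kernel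
theorem okR375 : OKR (375 * 4032) 4032 := by decide +kernel

end Cfsg.Agent.Helper10.SchJ3
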