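import Cfsg.Agent.Helper10.SchJ3.Tab

set_option autoImplicit false
set_option linter.all false
set_option maxRecDepth 1000000
set_option maxHeartbeats 0

namespace Cfsg.Agent.Helper10.SchJ3

theorem okR376 : OKR (376 * 4032) 4032 := by decide +kernel
theorem okR377 : OKR (377 * 4032) 4032 := by decide +kernel
theorem okR378 : OKR (378 * 4032) 4032 := by decide +kernel
theorem okR379 : OKR (379 * 4032) 4032 := by decide +kernel
theorem okR380 : OKR (380 * 4032) 4032 := by decide +kernel
theorem okR381 : OKR (381 * 4032) 4032 := by decide +kernel
theorem okR382 : OKR (382 * 4032) 4032 := by decide +kernel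
theorem okR383 : OKR (383 * 4032) 4032 := by decide +kernel

end Cfsg.Agent.Helper10.SchJ3
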