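import Cfsg.Agent.Helper10.SchJ3.Tab

set_option autoImplicit false
set_option linter.all false
set_option maxRecDepth 1000000
set_option maxHeartbeats 0

namespace Cfsg.Agent.Helper10.SchJ3

theorem okR392 : OKR (392 * 4032) 4032 := by decide +kernel
theorem okR393 : OKR (393 * 4032) 4032 := by decide +kernel
theorem okR394 : OKR (394 * 4032) 4032 := by decide +kernel
theorem okR395 : OKR (395 * 4032) 4032 := by decide +kernel
theorem okR396 : OKR (396 * 4032) 4032 := by decide +kernel
theorem okR397 : OKR (397 * 4032) 4032 := by decide +kernel
theorem okR398 : OKR (398 * 4032) 4032 := by decide +kernel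
theorem okR399 : OKR (399 * 4032) 4032 := by decide +kernel

end Cfsg.Agent.Helper10.SchJ3
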