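import Cfsg.Agent.Helper10.SchJ3.Tab

set_option autoImplicit false
set_option linter.all false
set_option maxRecDepth 1000000
set_option maxHeartbeats 0

namespace Cfsg.Agent.Helper10.SchJ3

theorem okR40 : OKR (40 * 4032) 4032 := by decide +kernel
theorem okR41 : OKR (41 * 4032) 4032 := by decide +kernel
theorem okR42 : OKR (42 * 4032) 4032 := by decide +kernel
theorem okR43 : OKR (43 * 4032) 4032 := by decide +kernel
theorem okR44 : OKR (44 * 4032) 4032 := by decide +kernel
theorem okR45 : OKR (45 * 4032) 4032 := by decide +kernel
theorem okR46 : OKR (46 * 4032) 4032 := by decide +kernel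
theorem okR47 : OKR (47 * 4032) 4032 := by decide +kernel

end Cfsg.Agent.Helper10.SchJ3
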