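import Cfsg.Agent.Helper10.SchJ3.Tab

set_option autoImplicit false
set_option linter.all false
set_option maxRecDepth 1000000
set_option maxHeartbeats 0

namespace Cfsg.Agent.Helper10.SchJ3

theorem okR408 : OKR (408 * 4032) 4032 := by decide +kernel
theorem okR409 : OKR (409 * 4032) 4032 := by decide +kernel
theorem okR410 : OKR (410 * 4032) 4032 := by decide +kernel
theorem okR411 : OKR (411 * 4032) 4032 := by decide +kernel
theorem okR412 : OKR (412 * 4032) 4032 := by decide +kernel
theorem okR413 : OKR (413 * 4032) 4032 := by decide +kernel
theorem okR414 : OKR (414 * 4032) 4032 := by decide +kernel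
theorem okR415 : OKR (415 * 4032) 4032 := by decide +kernel

end Cfsg.Agent.Helper10.SchJ3
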