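import Cfsg.Agent.Helper10.SchJ3.Tab

set_option autoImplicit false
set_option linter.all false
set_option maxRecDepth 1000000
set_option maxHeartbeats 0

namespace Cfsg.Agent.Helper10.SchJ3

theorem okR416 : OKR (416 * 4032) 4032 := by decide +kernel
theorem okR417 : OKR (417 * 4032) 4032 := by decide +kernel
theorem okR418 : OKR (418 * 4032) 4032 := by decide +kernel
theorem okR419 : OKR (419 * 4032) 4032 := by decide +kernel
theorem okR420 : OKR (420 * 4032) 4032 := by decide +kernel
theorem okR421 : OKR (421 * 4032) 4032 := by decide +kernel
theorem okR422 : OKR (422 * 4032) 4032 := by decide +kernel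
theorem okR423 : OKR (423 * 4032) 4032 := by decide +kernel

end Cfsg.Agent.Helper10.SchJ3
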