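import Cfsg.Agent.Helper10.SchJ3.Tab

set_option autoImplicit false
set_option linter.all false
set_option maxRecDepth 1000000
set_option maxHeartbeats 0

namespace Cfsg.Agent.Helper10.SchJ3

theorem okR424 : OKR (424 * 4032) 4032 := by decide +kernel
theorem okR425 : OKR (425 * 4032) 4032 := by decide +kernel
theorem okR426 : OKR (426 * 4032) 4032 := by decide +kernel
theorem okR427 : OKR (427 * 4032) 4032 := by decide +kernel
theorem okR428 : OKR (428 * 4032) 4032 := by decide +kernel
theorem okR429 : OKR (429 * 4032) 4032 := by decide +kernel
theorem okR430 : OKR (430 * 4032) 4032 := by decide +kernel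
theorem okR431 : OKR (431 * 4032) 4032 := by decide +kernel

end Cfsg.Agent.Helper10.SchJ3
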