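import Cfsg.Agent.Helper10.SchJ3.Tab

set_option autoImplicit false
set_option linter.all false
set_option maxRecDepth 1000000
set_option maxHeartbeats 0

namespace Cfsg.Agent.Helper10.SchJ3

theorem okR432 : OKR (432 * 4032) 4032 := by decide +kernel
theorem okR433 : OKR (433 * 4032) 4032 := by decide +kernel
theorem okR434 : OKR (434 * 4032) 4032 := by decide +kernel
theorem okR435 : OKR (435 * 4032) 4032 := by decide +kernel
theorem okR436 : OKR (436 * 4032) 4032 := by decide +kernel
theorem okR437 : OKR (437 * 4032) 4032 := by decide +kernel
theorem okR438 : OKR (438 * 4032) 4032 := by decide +kernel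
theorem okR439 : OKR (439 * 4032) 4032 := by decide +kernel

end Cfsg.Agent.Helper10.SchJ3
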