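import Cfsg.Agent.Helper10.SchJ3.Tab

set_option autoImplicit false
set_option linter.all false
set_option maxRecDepth 1000000
set_option maxHeartbeats 0

namespace Cfsg.Agent.Helper10.SchJ3

theorem okR440 : OKR (440 * 4032) 4032 := by decide +kernel
theorem okR441 : OKR (441 * 4032) 4032 := by decide +kernel
theorem okR442 : OKR (442 * 4032) 4032 := by decide +kernel
theorem okR443 : OKR (443 * 4032) 4032 := by decide +kernel
theorem okR444 : OKR (444 * 4032) 4032 := by decide +kernel
theorem okR445 : OKR (445 * 4032) 4032 := by decide +kernel
theorem okR446 : OKR (446 * 4032) 4032 := by decide +kernel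
theorem okR447 : OKR (447 * 4032) 4032 := by decide +kernel

end Cfsg.Agent.Helper10.SchJ3
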