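import Cfsg.Agent.Helper10.SchJ3.Tab

set_option autoImplicit false
set_option linter.all false
set_option maxRecDepth 1000000
set_option maxHeartbeats 0

namespace Cfsg.Agent.Helper10.SchJ3

theorem okR448 : OKR (448 * 4032) 4032 := by decide +kernel
theorem okR449 : OKR (449 * 4032) 4032 := by decide +kernel
theorem okR450 : OKR (450 * 4032) 4032 := by decide +kernel
theorem okR451 : OKR (451 * 4032) 4032 := by decide +kernel
theorem okR452 : OKR (452 * 4032) 4032 := by decide +kernel
theorem okR453 : OKR (453 * 4032) 4032 := by decide +kernel
theorem okR454 : OKR (454 * 4032) 4032 := by decide +kernel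
theorem okR455 : OKR (455 * 4032) 4032 := by decide +kernel

end Cfsg.Agent.Helper10.SchJ3
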