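import Cfsg.Agent.Helper10.SchJ3.Tab

set_option autoImplicit false
set_option linter.all false
set_option maxRecDepth 1000000
set_option maxHeartbeats 0

namespace Cfsg.Agent.Helper10.SchJ3

theorem okR456 : OKR (456 * 4032) 4032 := by decide +kernel
theorem okR457 : OKR (457 * 4032) 4032 := by decide +kernel
theorem okR458 : OKR (458 * 4032) 4032 := by decide +kernel
theorem okR459 : OKR (459 * 4032) 4032 := by decide +kernel
theorem okR460 : OKR (460 * 4032) 4032 := by decide +kernel
theorem okR461 : OKR (461 * 4032) 4032 := by decide +kernel
theorem okR462 : OKR (462 * 4032) 4032 := by decide +kernel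
theorem okR463 : OKR (463 * 4032) 4032 := by decide +kernel

end Cfsg.Agent.Helper10.SchJ3
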