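import Cfsg.Agent.Helper10.SchJ3.Tab

set_option autoImplicit false
set_option linter.all false
set_option maxRecDepth 1000000
set_option maxHeartbeats 0

namespace Cfsg.Agent.Helper10.SchJ3

theorem okR472 : OKR (472 * 4032) 4032 := by decide +kernel
theorem okR473 : OKR (473 * 4032) 4032 := by decide +kernel
theorem okR474 : OKR (474 * 4032) 4032 := by decide +kernel
theorem okR475 : OKR (475 * 4032) 4032 := by decide +kernel
theorem okR476 : OKR (476 * 4032) 4032 := by decide +kernel
theorem okR477 : OKR (477 * 4032) 4032 := by decide +kernel
theorem okR478 : OKR (478 * 4032) 4032 := by decide +kernel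
theorem okR479 : OKR (479 * 4032) 4032 := by decide +kernel

end Cfsg.Agent.Helper10.SchJ3
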