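import Cfsg.Agent.Helper10.SchJ3.Tab

set_option autoImplicit false
set_option linter.all false
set_option maxRecDepth 1000000
set_option maxHeartbeats 0

namespace Cfsg.Agent.Helper10.SchJ3

theorem okR480 : OKR (480 * 4032) 4032 := by decide +kernel
theorem okR481 : OKR (481 * 4032) 4032 := by decide +kernel
theorem okR482 : OKR (482 * 4032) 4032 := by decide +kernel
theorem okR483 : OKR (483 * 4032) 4032 := by decide +kernel
theorem okR484 : OKR (484 * 4032) 4032 := by decide +kernel
theorem okR485 : OKR (485 * 4032) 4032 := by decide +kernel
theorem okR486 : OKR (486 * 4032) 4032 := by decide +kernel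
theorem okR487 : OKR (487 * 4032) 4032 := by decide +kernel

end Cfsg.Agent.Helper10.SchJ3
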