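import Cfsg.Agent.Helper10.SchJ3.Tab

set_option autoImplicit false
set_option linter.all false
set_option maxRecDepth 1000000
set_option maxHeartbeats 0

namespace Cfsg.Agent.Helper10.SchJ3

theorem okR488 : OKR (488 * 4032) 4032 := by decide +kernel
theorem okR489 : OKR (489 * 4032) 4032 := by decide +kernel
theorem okR490 : OKR (490 * 4032) 4032 := by decide +kernel
theorem okR491 : OKR (491 * 4032) 4032 := by decide +kernel
theorem okR492 : OKR (492 * 4032) 4032 := by decide +kernel
theorem okR493 : OKR (493 * 4032) 4032 := by decide +kernel
theorem okR494 : OKR (494 * 4032) 4032 := by decide +kernel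
theorem okR495 : OKR (495 * 4032) 4032 := by decide +kernel

end Cfsg.Agent.Helper10.SchJ3
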