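import Cfsg.Agent.Helper10.SchJ3.Tab

set_option autoImplicit false
set_option linter.all false
set_option maxRecDepth 1000000
set_option maxHeartbeats 0

namespace Cfsg.Agent.Helper10.SchJ3

theorem okR504 : OKR (504 * 4032) 4032 := by decide +kernel
theorem okR505 : OKR (505 * 4032) 4032 := by decide +kernel
theorem okR506 : OKR (506 * 4032) 4032 := by decide +kernel
theorem okR507 : OKR (507 * 4032) 4032 := by decide +kernel
theorem okR508 : OKR (508 * 4032) 4032 := by decide +kernel
theorem okR509 : OKR (509 * 4032) 4032 := by decide +kernel
theorem okR510 : OKR (510 * 4032) 4032 := by decide +kernel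
theorem okR511 : OKR (511 * 4032) 4032 := by decide +kernel

end Cfsg.Agent.Helper10.SchJ3
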