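import Cfsg.Agent.Helper10.SchJ3.Tab

set_option autoImplicit false
set_option linter.all false
set_option maxRecDepth 1000000
set_option maxHeartbeats 0

namespace Cfsg.Agent.Helper10.SchJ3

theorem okR512 : OKR (512 * 4032) 4032 := by decide +kernel
theorem okR513 : OKR (513 * 4032) 4032 := by decide +kernel
theorem okR514 : OKR (514 * 4032) 4032 := by decide +kernel
theorem okR515 : OKR (515 * 4032) 4032 := by decide +kernel
theorem okR516 : OKR (516 * 4032) 4032 := by decide +kernel
theorem okR517 : OKR (517 * 4032) 4032 := by decide +kernel
theorem okR518 : OKR (518 * 4032) 4032 := by decide +kernel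
theorem okR519 : OKR (519 * 4032) 4032 := by decide +kernel

end Cfsg.Agent.Helper10.SchJ3
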