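import Cfsg.Agent.Helper10.SchJ3.Tab

set_option autoImplicit false
set_option linter.all false
set_option maxRecDepth 1000000
set_option maxHeartbeats 0

namespace Cfsg.Agent.Helper10.SchJ3

theorem okR520 : OKR (520 * 4032) 4032 := by decide +kernel
theorem okR521 : OKR (521 * 4032) 4032 := by decide +kernel
theorem okR522 : OKR (522 * 4032) 4032 := by decide +kernel
theorem okR523 : OKR (523 * 4032) 4032 := by decide +kernel
theorem okR524 : OKR (524 * 4032) 4032 := by decide +kernel
theorem okR525 : OKR (525 * 4032) 4032 := by decide +kernel
theorem okR526 : OKR (526 * 4032) 4032 := by decide +kernel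
theorem okR527 : OKR (527 * 4032) 4032 := by decide +kernel

end Cfsg.Agent.Helper10.SchJ3
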