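import Cfsg.Agent.Helper10.SchJ3.Tab

set_option autoImplicit false
set_option linter.all false
set_option maxRecDepth 1000000
set_option maxHeartbeats 0

namespace Cfsg.Agent.Helper10.SchJ3

theorem okR528 : OKR (528 * 4032) 4032 := by decide +kernel
theorem okR529 : OKR (529 * 4032) 4032 := by decide +kernel
theorem okR530 : OKR (530 * 4032) 4032 := by decide +kernel
theorem okR531 : OKR (531 * 4032) 4032 := by decide +kernel
theorem okR532 : OKR (532 * 4032) 4032 := by decide +kernel
theorem okR533 : OKR (533 * 4032) 4032 := by decide +kernel
theorem okR534 : OKR (534 * 4032) 4032 := by decide +kernel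
theorem okR535 : OKR (535 * 4032) 4032 := by decide +kernel

end Cfsg.Agent.Helper10.SchJ3
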