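import Cfsg.Agent.Helper10.SchJ3.Tab

set_option autoImplicit false
set_option linter.all false
set_option maxRecDepth 1000000
set_option maxHeartbeats 0

namespace Cfsg.Agent.Helper10.SchJ3

theorem okR536 : OKR (536 * 4032) 4032 := by decide +kernel
theorem okR537 : OKR (537 * 4032) 4032 := by decide +kernel
theorem okR538 : OKR (538 * 4032) 4032 := by decide +kernel
theorem okR539 : OKR (539 * 4032) 4032 := by decide +kernel
theorem okR540 : OKR (540 * 4032) 4032 := by decide +kernel
theorem okR541 : OKR (541 * 4032) 4032 := by decide +kernel
theorem okR542 : OKR (542 * 4032) 4032 := by decide +kernel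
theorem okR543 : OKR (543 * 4032) 4032 := by decide +kernel

end Cfsg.Agent.Helper10.SchJ3
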