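import Cfsg.Agent.Helper10.SchJ3.Tab

set_option autoImplicit false
set_option linter.all false
set_option maxRecDepth 1000000
set_option maxHeartbeats 0

namespace Cfsg.Agent.Helper10.SchJ3

theorem okR544 : OKR (544 * 4032) 4032 := by decide +kernel
theorem okR545 : OKR (545 * 4032) 4032 := by decide +kernel
theorem okR546 : OKR (546 * 4032) 4032 := by decide +kernel
theorem okR547 : OKR (547 * 4032) 4032 := by decide +kernel
theorem okR548 : OKR (548 * 4032) 4032 := by decide +kernel
theorem okR549 : OKR (549 * 4032) 4032 := by decide +kernel
theorem okR550 : OKR (550 * 4032) 4032 := by decide +kernel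
theorem okR551 : OKR (551 * 4032) 4032 := by decide +kernel

end Cfsg.Agent.Helper10.SchJ3
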