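import Cfsg.Agent.Helper10.SchJ3.Tab

set_option autoImplicit false
set_option linter.all false
set_option maxRecDepth 1000000
set_option maxHeartbeats 0

namespace Cfsg.Agent.Helper10.SchJ3

theorem okR552 : OKR (552 * 4032) 4032 := by decide +kernel
theorem okR553 : OKR (553 * 4032) 4032 := by decide +kernel
theorem okR554 : OKR (554 * 4032) 4032 := by decide +kernel
theorem okR555 : OKR (555 * 4032) 4032 := by decide +kernel
theorem okR556 : OKR (556 * 4032) 4032 := by decide +kernel
theorem okR557 : OKR (557 * 4032) 4032 := by decide +kernel
theorem okR558 : OKR (558 * 4032) 4032 := by decide +kernel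
theorem okR559 : OKR (559 * 4032) 4032 := by decide +kernel

end Cfsg.Agent.Helper10.SchJ3
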