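import Cfsg.Agent.Helper10.SchJ3.Tab

set_option autoImplicit false
set_option linter.all false
set_option maxRecDepth 1000000
set_option maxHeartbeats 0

namespace Cfsg.Agent.Helper10.SchJ3

theorem okR568 : OKR (568 * 4032) 4032 := by decide +kernel
theorem okR569 : OKR (569 * 4032) 4032 := by decide +kernel
theorem okR570 : OKR (570 * 4032) 4032 := by decide +kernel
theorem okR571 : OKR (571 * 4032) 4032 := by decide +kernel
theorem okR572 : OKR (572 * 4032) 4032 := by decide +kernel
theorem okR573 : OKR (573 * 4032) 4032 := by decide +kernel
theorem okR574 : OKR (574 * 4032) 4032 := by decide +kernel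
theorem okR575 : OKR (575 * 4032) 4032 := by decide +kernel

end Cfsg.Agent.Helper10.SchJ3
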