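import Cfsg.Agent.Helper10.SchJ3.Tab

set_option autoImplicit false
set_option linter.all false
set_option maxRecDepth 1000000
set_option maxHeartbeats 0

namespace Cfsg.Agent.Helper10.SchJ3

theorem okR576 : OKR (576 * 4032) 4032 := by decide +kernel
theorem okR577 : OKR (577 * 4032) 4032 := by decide +kernel
theorem okR578 : OKR (578 * 4032) 4032 := by decide +kernel
theorem okR579 : OKR (579 * 4032) 4032 := by decide +kernel
theorem okR580 : OKR (580 * 4032) 4032 := by decide +kernel
theorem okR581 : OKR (581 * 4032) 4032 := by decide +kernel
theorem okR582 : OKR (582 * 4032) 4032 := by decide +kernel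
theorem okR583 : OKR (583 * 4032) 4032 := by decide +kernel

end Cfsg.Agent.Helper10.SchJ3
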