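import Cfsg.Agent.Helper10.SchJ3.Tab

set_option autoImplicit false
set_option linter.all false
set_option maxRecDepth 1000000
set_option maxHeartbeats 0

namespace Cfsg.Agent.Helper10.SchJ3

theorem okR600 : OKR (600 * 4032) 4032 := by decide +kernel
theorem okR601 : OKR (601 * 4032) 4032 := by decide +kernel
theorem okR602 : OKR (602 * 4032) 4032 := by decide +kernel
theorem okR603 : OKR (603 * 4032) 4032 := by decide +kernel
theorem okR604 : OKR (604 * 4032) 4032 := by decide +kernel
theorem okR605 : OKR (605 * 4032) 4032 := by decide +kernel
theorem okR606 : OKR (606 * 4032) 4032 := by decide +kernel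
theorem okR607 : OKR (607 * 4032) 4032 := by decide +kernel

end Cfsg.Agent.Helper10.SchJ3
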