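import Cfsg.Agent.Helper10.SchJ3.Tab

set_option autoImplicit false
set_option linter.all false
set_option maxRecDepth 1000000
set_option maxHeartbeats 0

namespace Cfsg.Agent.Helper10.SchJ3

theorem okR616 : OKR (616 * 4032) 4032 := by decide +kernel
theorem okR617 : OKR (617 * 4032) 4032 := by decide +kernel
theorem okR618 : OKR (618 * 4032) 4032 := by decide +kernel
theorem okR619 : OKR (619 * 4032) 4032 := by decide +kernel
theorem okR620 : OKR (620 * 4032) 4032 := by decide +kernel
theorem okR621 : OKR (621 * 4032) 4032 := by decide +kernel
theorem okR622 : OKR (622 * 4032) 4032 := by decide +kernel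
theorem okR623 : OKR (623 * 4032) 4032 := by decide +kernel

end Cfsg.Agent.Helper10.SchJ3
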