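import Cfsg.Agent.Helper10.SchJ3.Tab

set_option autoImplicit false
set_option linter.all false
set_option maxRecDepth 1000000
set_option maxHeartbeats 0

namespace Cfsg.Agent.Helper10.SchJ3

theorem okR624 : OKR (624 * 4032) 4032 := by decide +kernel
theorem okR625 : OKR (625 * 4032) 4032 := by decide +kernel
theorem okR626 : OKR (626 * 4032) 4032 := by decide +kernel
theorem okR627 : OKR (627 * 4032) 4032 := by decide +kernel
theorem okR628 : OKR (628 * 4032) 4032 := by decide +kernel
theorem okR629 : OKR (629 * 4032) 4032 := by decide +kernel
theorem okR630 : OKR (630 * 4032) 4032 := by decide +kernel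
theorem okR631 : OKR (631 * 4032) 4032 := by decide +kernel

end Cfsg.Agent.Helper10.SchJ3
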