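import Cfsg.Agent.Helper10.SchJ3.Tab

set_option autoImplicit false
set_option linter.all false
set_option maxRecDepth 1000000
set_option maxHeartbeats 0

namespace Cfsg.Agent.Helper10.SchJ3

theorem okR632 : OKR (632 * 4032) 4032 := by decide +kernel
theorem okR633 : OKR (633 * 4032) 4032 := by decide +kernel
theorem okR634 : OKR (634 * 4032) 4032 := by decide +kernel
theorem okR635 : OKR (635 * 4032) 4032 := by decide +kernel
theorem okR636 : OKR (636 * 4032) 4032 := by decide +kernel
theorem okR637 : OKR (637 * 4032) 4032 := by decide +kernel
theorem okR638 : OKR (638 * 4032) 4032 := by decide +kernel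
theorem okR639 : OKR (639 * 4032) 4032 := by decide +kernel

end Cfsg.Agent.Helper10.SchJ3
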