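import Cfsg.Agent.Helper10.SchJ3.Tab

set_option autoImplicit false
set_option linter.all false
set_option maxRecDepth 1000000
set_option maxHeartbeats 0

namespace Cfsg.Agent.Helper10.SchJ3

theorem okR640 : OKR (640 * 4032) 4032 := by decide +kernel
theorem okR641 : OKR (641 * 4032) 4032 := by decide +kernel
theorem okR642 : OKR (642 * 4032) 4032 := by decide +kernel
theorem okR643 : OKR (643 * 4032) 4032 := by decide +kernel
theorem okR644 : OKR (644 * 4032) 4032 := by decide +kernel
theorem okR645 : OKR (645 * 4032) 4032 := by decide +kernel
theorem okR646 : OKR (646 * 4032) 4032 := by decide +kernel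
theorem okR647 : OKR (647 * 4032) 4032 := by decide +kernel

end Cfsg.Agent.Helper10.SchJ3
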