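import Cfsg.Agent.Helper10.SchJ3.Tab

set_option autoImplicit false
set_option linter.all false
set_option maxRecDepth 1000000
set_option maxHeartbeats 0

namespace Cfsg.Agent.Helper10.SchJ3

theorem okR648 : OKR (648 * 4032) 4032 := by decide +kernel
theorem okR649 : OKR (649 * 4032) 4032 := by decide +kernel
theorem okR650 : OKR (650 * 4032) 4032 := by decide +kernel
theorem okR651 : OKR (651 * 4032) 4032 := by decide +kernel
theorem okR652 : OKR (652 * 4032) 4032 := by decide +kernel
theorem okR653 : OKR (653 * 4032) 4032 := by decide +kernel
theorem okR654 : OKR (654 * 4032) 4032 := by decide +kernel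
theorem okR655 : OKR (655 * 4032) 4032 := by decide +kernel

end Cfsg.Agent.Helper10.SchJ3
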