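import Cfsg.Agent.Helper10.SchJ3.Tab

set_option autoImplicit false
set_option linter.all false
set_option maxRecDepth 1000000
set_option maxHeartbeats 0

namespace Cfsg.Agent.Helper10.SchJ3

theorem okR72 : OKR (72 * 4032) 4032 := by decide +kernel
theorem okR73 : OKR (73 * 4032) 4032 := by decide +kernel
theorem okR74 : OKR (74 * 4032) 4032 := by decide +kernel
theorem okR75 : OKR (75 * 4032) 4032 := by decide +kernel
theorem okR76 : OKR (76 * 4032) 4032 := by decide +kernel
theorem okR77 : OKR (77 * 4032) 4032 := by decide +kernel
theorem okR78 : OKR (78 * 4032) 4032 := by decide +kernel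
theorem okR79 : OKR (79 * 4032) 4032 := by decide +kernel

end Cfsg.Agent.Helper10.SchJ3
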