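import Cfsg.Agent.Helper10.SchJ3.Tab

set_option autoImplicit false
set_option linter.all false
set_option maxRecDepth 1000000
set_option maxHeartbeats 0

namespace Cfsg.Agent.Helper10.SchJ3

theorem okF0 : OKF [2, 2] 11464 26328079194242528616357746526247015746949427639242120316795813888 := by decide +kernel
theorem okF1 : OKF [2, 2] 61 26328079194338309610497833107705045119355560464768322285458227200 := by decide +kernel
theorem okF2 : OKF [2, 2] 52864 26328079194434090558965982633540511050819097570465985014261678080 := by decide +kernel
theorem okF3 : OKF [2, 2] 480 26328079194242528639193709609542373843263033130791405138028331008 := by decide +kernel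
theorem okF4 : OKF [2, 2] 56859 26328882663264658134331480590587246350349660525381093541619499008 := by decide +kernel
theorem okF5 : OKF [2, 2] 24909 26329284397775722881900366081111629715524409571497105640306835456 := by decide +kernel
theorem okF6 : OKF [0, 0, 0, 0, 0, 0, 0, 0, 0, 0, 0, 0, 0, 0, 0, 0, 0, 0, 0] 0 250116752345304022072340241290652551513938922335820458461084876819 := by decide +kernel
theorem okF7 : OKF [0, 0, 0, 0, 0, 0, 2, 0, 0, 0, 2, 1, 1, 1, 2, 1, 1, 1, 2, 0, 0, 0, 2] 48459 302774517672024900283611454912684536316961743836288466232009261056 := by decide +kernel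

end Cfsg.Agent.Helper10.SchJ3
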