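import Cfsg.Agent.Helper19.TCR.LabDefs
import Cfsg.Agent.Helper10.SchJ3.Col1P0
import Cfsg.Agent.Helper10.SchJ3.Col1P1
import Cfsg.Agent.Helper10.SchJ3.Col1P2
import Cfsg.Agent.Helper10.SchJ3.Col1P3
import Cfsg.Agent.Helper10.SchJ3.Col1P4
import Cfsg.Agent.Helper10.SchJ3.Col1P5
import Cfsg.Agent.Helper10.SchJ3.Col1P6
import Cfsg.Agent.Helper10.SchJ3.Col1P7
import Cfsg.Agent.Helper10.SchJ3.Col1P8
import Cfsg.Agent.Helper10.SchJ3.Col1P9
import Cfsg.Agent.Helper10.SchJ3.Col1P10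
import Cfsg.Agent.Helper10.SchJ3.Col1P11
import Cfsg.Agent.Helper10.SchJ3.Col1P12
import Cfsg.Agent.Helper10.SchJ3.Col1P13
import Cfsg.Agent.Helper10.SchJ3.Col1P14
import Cfsg.Agent.Helper10.SchJ3.Col1P15
import Cfsg.Agent.Helper10.SchJ3.Col1P16
import Cfsg.Agent.Helper10.SchJ3.Col1P17
import Cfsg.Agent.Helper10.SchJ3.Col1P18
import Cfsg.Agent.Helper10.SchJ3.Col1P19
import Cfsg.Agent.Helper10.SchJ3.Col1P20
import Cfsg.Agent.Helper10.SchJ3.Col1P21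
import Cfsg.Agent.Helper10.SchJ3.Col1P22
import Cfsg.Agent.Helper10.SchJ3.Col1P23
import Cfsg.Agent.Helper10.SchJ3.Col1P24
import Cfsg.Agent.Helper10.SchJ3.Col1P25
import Cfsg.Agent.Helper10.SchJ3.Col1P26
import Cfsg.Agent.Helper10.SchJ3.Col1P27
import Cfsg.Agent.Helper10.SchJ3.Col1P28
import Cfsg.Agent.Helper10.SchJ3.Col1P29
import Cfsg.Agent.Helper10.SchJ3.Col1P30
import Cfsg.Agent.Helper10.SchJ3.Col1P31
import Cfsg.Agent.Helper10.SchJ3.Col1P32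
import Cfsg.Agent.Helper10.SchJ3.Col1P33
import Cfsg.Agent.Helper10.SchJ3.Col1P34
import Cfsg.Agent.Helper10.SchJ3.Col1P35
import Cfsg.Agent.Helper10.SchJ3.Col1P36
import Cfsg.Agent.Helper10.SchJ3.Col1P37
import Cfsg.Agent.Helper10.SchJ3.Col1P38
import Cfsg.Agent.Helper10.SchJ3.Col1P39
import Cfsg.Agent.Helper10.SchJ3.Col1P40
import Cfsg.Agent.Helper10.SchJ3.Col1P41
import Cfsg.Agent.Helper10.SchJ3.Col1P42
import Cfsg.Agent.Helper10.SchJ3.Col1P43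
import Cfsg.Agent.Helper10.SchJ3.Col1P44
import Cfsg.Agent.Helper10.SchJ3.Col1P45
import Cfsg.Agent.Helper10.SchJ3.Col1P46
import Cfsg.Agent.Helper10.SchJ3.Col1P47
import Cfsg.Agent.Helper10.SchJ3.Col1P48
import Cfsg.Agent.Helper10.SchJ3.Col1P49
import Cfsg.Agent.Helper10.SchJ3.Col1P50
import Cfsg.Agent.Helper10.SchJ3.Col1P51
import Cfsg.Agent.Helper10.SchJ3.Col1P52
import Cfsg.Agent.Helper10.SchJ3.Col1P53
import Cfsg.Agent.Helper10.SchJ3.Col1P54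
import Cfsg.Agent.Helper10.SchJ3.Col1P55
import Cfsg.Agent.Helper10.SchJ3.Col1P56
import Cfsg.Agent.Helper10.SchJ3.Col1P57
import Cfsg.Agent.Helper10.SchJ3.Col1P58
import Cfsg.Agent.Helper10.SchJ3.Col1P59
import Cfsg.Agent.Helper10.SchJ3.Col1P60
import Cfsg.Agent.Helper10.SchJ3.Col1P61
import Cfsg.Agent.Helper10.SchJ3.Col1P62
import Cfsg.Agent.Helper10.SchJ3.Col1P63

set_option autoImplicit false
set_option linter.all false
set_option maxRecDepth 1000000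
set_option maxHeartbeats 0

namespace Cfsg.Agent.Helper10.SchJ3

open Cfsg.Agent.Helper19.TCS Cfsg.Agent.Helper19.TCL

noncomputable def col1 : Tr Nat := (.nd (.nd (.nd col1_p0 col1_p1 col1_p2 col1_p3) (.nd col1_p4 col1_p5 col1_p6 col1_p7) (.nd col1_p8 col1_p9 col1_p10 col1_p11) (.nd col1_p12 col1_p13 col1_p14 col1_p15)) (.nd (.nd col1_p16 col1_p17 col1_p18 col1_p19) (.nd col1_p20 col1_p21 col1_p22 col1_p23) (.nd col1_p24 col1_p25 col1_p26 col1_p27) (.nd col1_p28 col1_p29 col1_p30 col1_p31)) (.nd (.nd col1_p32 col1_p33 col1_p34 col1_p35) (.nd col1_p36 col1_p37 col1_p38 col1_p39) (.nd col1_p40 col1_p41 col1_p42 col1_p43) (.nd col1_p44 col1_p45 col1_p46 col1_p47)) (.nd (.nd col1_p48 col1_p49 col1_p50 col1_p51) (.nd col1_p52 col1_p53 col1_p54 col1_p55) (.nd col1_p56 col1_p57 col1_p58 col1_p59) (.nd col1_p60 col1_p61 col1_p62 col1_p63)))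

end Cfsg.Agent.Helper10.SchJ3
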