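import Cfsg.Agent.Helper19.TCR.LabDefs
import Cfsg.Agent.Helper10.SchJ3.Col2P0
import Cfsg.Agent.Helper10.SchJ3.Col2P1
import Cfsg.Agent.Helper10.SchJ3.Col2P2
import Cfsg.Agent.Helper10.SchJ3.Col2P3
import Cfsg.Agent.Helper10.SchJ3.Col2P4
import Cfsg.Agent.Helper10.SchJ3.Col2P5
import Cfsg.Agent.Helper10.SchJ3.Col2P6
import Cfsg.Agent.Helper10.SchJ3.Col2P7
import Cfsg.Agent.Helper10.SchJ3.Col2P8
import Cfsg.Agent.Helper10.SchJ3.Col2P9
import Cfsg.Agent.Helper10.SchJ3.Col2P10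
import Cfsg.Agent.Helper10.SchJ3.Col2P11
import Cfsg.Agent.Helper10.SchJ3.Col2P12
import Cfsg.Agent.Helper10.SchJ3.Col2P13
import Cfsg.Agent.Helper10.SchJ3.Col2P14
import Cfsg.Agent.Helper10.SchJ3.Col2P15
import Cfsg.Agent.Helper10.SchJ3.Col2P16
import Cfsg.Agent.Helper10.SchJ3.Col2P17
import Cfsg.Agent.Helper10.SchJ3.Col2P18
import Cfsg.Agent.Helper10.SchJ3.Col2P19
import Cfsg.Agent.Helper10.SchJ3.Col2P20
import Cfsg.Agent.Helper10.SchJ3.Col2P21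
import Cfsg.Agent.Helper10.SchJ3.Col2P22
import Cfsg.Agent.Helper10.SchJ3.Col2P23
import Cfsg.Agent.Helper10.SchJ3.Col2P24
import Cfsg.Agent.Helper10.SchJ3.Col2P25
import Cfsg.Agent.Helper10.SchJ3.Col2P26
import Cfsg.Agent.Helper10.SchJ3.Col2P27
import Cfsg.Agent.Helper10.SchJ3.Col2P28
import Cfsg.Agent.Helper10.SchJ3.Col2P29
import Cfsg.Agent.Helper10.SchJ3.Col2P30
import Cfsg.Agent.Helper10.SchJ3.Col2P31
import Cfsg.Agent.Helper10.SchJ3.Col2P32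
import Cfsg.Agent.Helper10.SchJ3.Col2P33
import Cfsg.Agent.Helper10.SchJ3.Col2P34
import Cfsg.Agent.Helper10.SchJ3.Col2P35
import Cfsg.Agent.Helper10.SchJ3.Col2P36
import Cfsg.Agent.Helper10.SchJ3.Col2P37
import Cfsg.Agent.Helper10.SchJ3.Col2P38
import Cfsg.Agent.Helper10.SchJ3.Col2P39
import Cfsg.Agent.Helper10.SchJ3.Col2P40
import Cfsg.Agent.Helper10.SchJ3.Col2P41
import Cfsg.Agent.Helper10.SchJ3.Col2P42
import Cfsg.Agent.Helper10.SchJ3.Col2P43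
import Cfsg.Agent.Helper10.SchJ3.Col2P44
import Cfsg.Agent.Helper10.SchJ3.Col2P45
import Cfsg.Agent.Helper10.SchJ3.Col2P46
import Cfsg.Agent.Helper10.SchJ3.Col2P47
import Cfsg.Agent.Helper10.SchJ3.Col2P48
import Cfsg.Agent.Helper10.SchJ3.Col2P49
import Cfsg.Agent.Helper10.SchJ3.Col2P50
import Cfsg.Agent.Helper10.SchJ3.Col2P51
import Cfsg.Agent.Helper10.SchJ3.Col2P52
import Cfsg.Agent.Helper10.SchJ3.Col2P53
import Cfsg.Agent.Helper10.SchJ3.Col2P54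
import Cfsg.Agent.Helper10.SchJ3.Col2P55
import Cfsg.Agent.Helper10.SchJ3.Col2P56
import Cfsg.Agent.Helper10.SchJ3.Col2P57
import Cfsg.Agent.Helper10.SchJ3.Col2P58
import Cfsg.Agent.Helper10.SchJ3.Col2P59
import Cfsg.Agent.Helper10.SchJ3.Col2P60
import Cfsg.Agent.Helper10.SchJ3.Col2P61
import Cfsg.Agent.Helper10.SchJ3.Col2P62
import Cfsg.Agent.Helper10.SchJ3.Col2P63

set_option autoImplicit false
set_option linter.all false
set_option maxRecDepth 1000000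
set_option maxHeartbeats 0

namespace Cfsg.Agent.Helper10.SchJ3

open Cfsg.Agent.Helper19.TCS Cfsg.Agent.Helper19.TCL

noncomputable def col2 : Tr Nat := (.nd (.nd (.nd col2_p0 col2_p1 col2_p2 col2_p3) (.nd col2_p4 col2_p5 col2_p6 col2_p7) (.nd col2_p8 col2_p9 col2_p10 col2_p11) (.nd col2_p12 col2_p13 col2_p14 col2_p15)) (.nd (.nd col2_p16 col2_p17 col2_p18 col2_p19) (.nd col2_p20 col2_p21 col2_p22 col2_p23) (.nd col2_p24 col2_p25 col2_p26 col2_p27) (.nd col2_p28 col2_p29 col2_p30 col2_p31)) (.nd (.nd col2_p32 col2_p33 col2_p34 col2_p35) (.nd col2_p36 col2_p37 col2_p38 col2_p39) (.nd col2_p40 col2_p41 col2_p42 col2_p43) (.nd col2_p44 col2_p45 col2_p46 col2_p47)) (.nd (.nd col2_p48 col2_p49 col2_p50 col2_p51) (.nd col2_p52 col2_p53 col2_p54 col2_p55) (.nd col2_p56 col2_p57 col2_p58 col2_p59) (.nd col2_p60 col2_p61 col2_p62 col2_p63)))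

end Cfsg.Agent.Helper10.SchJ3
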