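import Cfsg.Agent.Helper19.TCR.LabDefs
import Cfsg.Agent.Helper10.SchJ3.Col3P0
import Cfsg.Agent.Helper10.SchJ3.Col3P1
import Cfsg.Agent.Helper10.SchJ3.Col3P2
import Cfsg.Agent.Helper10.SchJ3.Col3P3
import Cfsg.Agent.Helper10.SchJ3.Col3P4
import Cfsg.Agent.Helper10.SchJ3.Col3P5
import Cfsg.Agent.Helper10.SchJ3.Col3P6
import Cfsg.Agent.Helper10.SchJ3.Col3P7
import Cfsg.Agent.Helper10.SchJ3.Col3P8
import Cfsg.Agent.Helper10.SchJ3.Col3P9
import Cfsg.Agent.Helper10.SchJ3.Col3P10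
import Cfsg.Agent.Helper10.SchJ3.Col3P11
import Cfsg.Agent.Helper10.SchJ3.Col3P12
import Cfsg.Agent.Helper10.SchJ3.Col3P13
import Cfsg.Agent.Helper10.SchJ3.Col3P14
import Cfsg.Agent.Helper10.SchJ3.Col3P15
import Cfsg.Agent.Helper10.SchJ3.Col3P16
import Cfsg.Agent.Helper10.SchJ3.Col3P17
import Cfsg.Agent.Helper10.SchJ3.Col3P18
import Cfsg.Agent.Helper10.SchJ3.Col3P19
import Cfsg.Agent.Helper10.SchJ3.Col3P20
import Cfsg.Agent.Helper10.SchJ3.Col3P21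
import Cfsg.Agent.Helper10.SchJ3.Col3P22
import Cfsg.Agent.Helper10.SchJ3.Col3P23
import Cfsg.Agent.Helper10.SchJ3.Col3P24
import Cfsg.Agent.Helper10.SchJ3.Col3P25
import Cfsg.Agent.Helper10.SchJ3.Col3P26
import Cfsg.Agent.Helper10.SchJ3.Col3P27
import Cfsg.Agent.Helper10.SchJ3.Col3P28
import Cfsg.Agent.Helper10.SchJ3.Col3P29
import Cfsg.Agent.Helper10.SchJ3.Col3P30
import Cfsg.Agent.Helper10.SchJ3.Col3P31
import Cfsg.Agent.Helper10.SchJ3.Col3P32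
import Cfsg.Agent.Helper10.SchJ3.Col3P33
import Cfsg.Agent.Helper10.SchJ3.Col3P34
import Cfsg.Agent.Helper10.SchJ3.Col3P35
import Cfsg.Agent.Helper10.SchJ3.Col3P36
import Cfsg.Agent.Helper10.SchJ3.Col3P37
import Cfsg.Agent.Helper10.SchJ3.Col3P38
import Cfsg.Agent.Helper10.SchJ3.Col3P39
import Cfsg.Agent.Helper10.SchJ3.Col3P40
import Cfsg.Agent.Helper10.SchJ3.Col3P41
import Cfsg.Agent.Helper10.SchJ3.Col3P42
import Cfsg.Agent.Helper10.SchJ3.Col3P43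
import Cfsg.Agent.Helper10.SchJ3.Col3P44
import Cfsg.Agent.Helper10.SchJ3.Col3P45
import Cfsg.Agent.Helper10.SchJ3.Col3P46
import Cfsg.Agent.Helper10.SchJ3.Col3P47
import Cfsg.Agent.Helper10.SchJ3.Col3P48
import Cfsg.Agent.Helper10.SchJ3.Col3P49
import Cfsg.Agent.Helper10.SchJ3.Col3P50
import Cfsg.Agent.Helper10.SchJ3.Col3P51
import Cfsg.Agent.Helper10.SchJ3.Col3P52
import Cfsg.Agent.Helper10.SchJ3.Col3P53
import Cfsg.Agent.Helper10.SchJ3.Col3P54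
import Cfsg.Agent.Helper10.SchJ3.Col3P55
import Cfsg.Agent.Helper10.SchJ3.Col3P56
import Cfsg.Agent.Helper10.SchJ3.Col3P57
import Cfsg.Agent.Helper10.SchJ3.Col3P58
import Cfsg.Agent.Helper10.SchJ3.Col3P59
import Cfsg.Agent.Helper10.SchJ3.Col3P60
import Cfsg.Agent.Helper10.SchJ3.Col3P61
import Cfsg.Agent.Helper10.SchJ3.Col3P62
import Cfsg.Agent.Helper10.SchJ3.Col3P63

set_option autoImplicit false
set_option linter.all false
set_option maxRecDepth 1000000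
set_option maxHeartbeats 0

namespace Cfsg.Agent.Helper10.SchJ3

open Cfsg.Agent.Helper19.TCS Cfsg.Agent.Helper19.TCL

noncomputable def col3 : Tr Nat := (.nd (.nd (.nd col3_p0 col3_p1 col3_p2 col3_p3) (.nd col3_p4 col3_p5 col3_p6 col3_p7) (.nd col3_p8 col3_p9 col3_p10 col3_p11) (.nd col3_p12 col3_p13 col3_p14 col3_p15)) (.nd (.nd col3_p16 col3_p17 col3_p18 col3_p19) (.nd col3_p20 col3_p21 col3_p22 col3_p23) (.nd col3_p24 col3_p25 col3_p26 col3_p27) (.nd col3_p28 col3_p29 col3_p30 col3_p31)) (.nd (.nd col3_p32 col3_p33 col3_p34 col3_p35) (.nd col3_p36 col3_p37 col3_p38 col3_p39) (.nd col3_p40 col3_p41 col3_p42 col3_p43) (.nd col3_p44 col3_p45 col3_p46 col3_p47)) (.nd (.nd col3_p48 col3_p49 col3_p50 col3_p51) (.nd col3_p52 col3_p53 col3_p54 col3_p55) (.nd col3_p56 col3_p57 col3_p58 col3_p59) (.nd col3_p60 col3_p61 col3_p62 col3_p63)))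

end Cfsg.Agent.Helper10.SchJ3
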