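import Mathlib
import Cfsg.Agent.Helper14.J3S
import Cfsg.Agent.Helper19.Schur.Table

/-! The concrete side for the Schur multiplier of `J₃`: two generators `x` (of order 19 modulo
scalars) and `t` (an involution) of the triple cover `3.J₃` (helper14's coded 9 × 9 matrices over
`GF(4)`), the relators of the labelled Todd–Coxeter certificate evaluate to scalar matrices, and
the images of `x`, `t` generate `J₃`. -/

set_option autoImplicit false
set_option linter.all false
set_option maxRecDepth 100000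
set_option maxHeartbeats 0

namespace Cfsg.Agent.Helper10.SchJ3.Conc

open Cfsg Cfsg.Spor Cfsg.Agent.Helper14.J3 Cfsg.Agent.Helper19.TCS Cfsg.Agent.Helper19.Schur

/-- the word (in helper14's fourteen letters) of `x`. -/
def xW : List Nat := [6, 5, 5, 4, 2]

/-- the conjugating word. -/
def uW : List Nat := [6, 5, 5, 4, 2, 6, 5, 5, 4, 2, 6, 5, 5, 4, 2, 6, 6, 5, 5, 4, 2, 6, 5, 5, 4, 2, 6, 6, 5, 5, 4, 2, 6, 5, 5, 4, 2, 6, 5, 5, 4, 2, 6, 5, 5, 4, 2, 6, 6, 5, 5, 4, 2, 6, 5, 5, 4, 2, 6, 5, 5, 4, 2, 6, 5, 5, 4, 2, 6]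

/-- the word of the involution `t`, a conjugate of the letter `6`. -/
def tW : List Nat := invW uW ++ [6] ++ uW

def xc : Nat := 913986291525551477088763363291997685586183193088
def xic : Nat := 844943881681273364347672527806556431967286729798
def tc : Nat := 881633273776699150183743236881685135860660596184

theorem xc_eq : evL xW = xc := by decide +kernel
theorem xic_eq : evL (invW xW) = xic := by decide +kernel
theorem tc_eq : evL tW = tc := by decide +kernel
theorem tic_eq : evL (invW tW) = tc := by decide +kernel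

/-- the codes of the four letters `x, x⁻¹, t, t⁻¹`. -/
def gcode (l : Nat) : Nat :=
  match l with
  | 0 => xc
  | 1 => xic
  | 2 => tc
  | 3 => tc
  | _ => ONE

/-- evaluation of a word in `x, x⁻¹, t, t⁻¹` (reversed product, as `prodw`) on codes. -/
def evR : List Nat → Nat
  | [] => ONE
  | l :: w => mul4 (evR w) (gcode l)

/-- the relators of the certificate. -/
def relsC : List (List Nat) := [[0, 0, 0, 0, 0, 0, 0, 0, 0, 0, 0, 0, 0, 0, 0, 0, 0, 0, 0], [2, 2], [0, 2, 0, 2, 0, 2, 0, 2, 0, 2, 0, 2], [0, 0, 2, 0, 2, 1, 2, 1, 1, 2, 1, 2, 0, 2], [0, 0, 0, 2, 0, 0, 0, 2, 0, 0, 0, 2, 0, 0, 0, 2], [0, 0, 0, 0, 0, 0, 2, 0, 0, 0, 0, 0, 0, 2, 0, 0, 0, 0, 0, 0, 2], [0, 0, 0, 0, 2, 0, 0, 2, 1, 1, 2, 1, 1, 1, 1, 2, 1, 1, 2, 0, 0, 2], [0, 0, 0, 0, 0, 0, 2, 0, 0, 0, 2, 1, 1, 1, 2, 1, 1, 1, 2, 0, 0, 0, 2], [0, 0, 0, 0, 0, 2, 0, 0, 0, 0, 2, 1, 2, 1, 1, 1, 1, 1, 2, 1, 2, 0, 0, 0, 0, 2]]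

theorem relsC_scalar : relsC.all (fun w => isScal (evR w)) = true := by decide +kernel

/-- words in `x, t` for helper14's two generators `X`, `Y` (the second up to the scalar `Z1`). -/
def wX : List Nat := [0, 0, 0, 0, 0, 0, 0, 0, 0, 0, 2, 1, 2, 0, 2, 1, 1, 2, 0, 0, 0, 0, 0, 2, 0, 0, 2, 1, 1, 1, 2, 0, 0, 0, 0]
def wY : List Nat := [0, 0, 0, 0, 0, 0, 0, 0, 0, 0, 0, 0, 0, 2, 1, 1, 1, 2, 0, 2, 1, 2, 0, 0, 2, 0, 2, 0, 0, 2, 1, 1, 2, 0, 2, 1, 1, 1, 2, 1, 2, 0]

theorem wX_eq : evR wX = Xc := by decide +kernel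
theorem wY_eq : evR wY = mul4 Yc Z1 := by decide +kernel

section field

universe u

variable {F : Type u} [Field F] [CharP F 2] [Finite F] (ω : F) (hω : ω * ω = ω + 1)
variable (h0 : ω ≠ 0) (h1 : ω ≠ 1)

include hω in
theorem valHom_inv_of_word (y : List Nat) (k : threeJ3 F ω)
    (hk : valHom ω k = toMat F ω (evL y)) : valHom ω k⁻¹ = toMat F ω (evL (invW y)) := by
  have h1 : valHom ω k⁻¹ * valHom ω k = 1 := by rw [← map_mul, inv_mul_cancel, map_one]
  calc valHom ω k⁻¹ = valHom ω k⁻¹ * (toMat F ω (evL y) * toMat F ω (evL (invW y))) := by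
        rw [evL_mul_inv ω hω, mul_one]
    _ = (valHom ω k⁻¹ * valHom ω k) * toMat F ω (evL (invW y)) := by rw [hk, mul_assoc]
    _ = _ := by rw [h1, one_mul]

/-- the data of the two generators. -/
structure XT (x t : threeJ3 F ω) : Prop where
  hx : valHom ω x = toMat F ω xc
  hxi : valHom ω x⁻¹ = toMat F ω xic
  ht : valHom ω t = toMat F ω tc
  hti : valHom ω t⁻¹ = toMat F ω tc

include hω in
theorem exists_xt : ∃ x t : threeJ3 F ω, XT ω x t := by
  obtain ⟨x, hx⟩ := exists_of_word ω hω xW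
  obtain ⟨t, ht⟩ := exists_of_word ω hω tW
  refine ⟨x, t, ?_, ?_, ?_, ?_⟩
  · rw [hx, xc_eq]
  · rw [valHom_inv_of_word ω hω xW x hx, xic_eq]
  · rw [ht, tc_eq]
  · rw [valHom_inv_of_word ω hω tW t ht, tic_eq]

variable {ω}

omit [Finite F] in
theorem valHom_gc2 {x t : threeJ3 F ω} (H : XT ω x t) (l : Nat) :
    valHom ω (gc2 x t l) = toMat F ω (gcode l) := by
  match l with
  | 0 => exact H.hx
  | 1 => exact H.hxi
  | 2 => exact H.ht
  | 3 => exact H.hti
  | (n + 4) =>
    show valHom ω (1 : threeJ3 F ω) = toMat F ω ONE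
    rw [map_one, toMat_ONE]

include hω in
omit [Finite F] in
theorem valHom_prodw {x t : threeJ3 F ω} (H : XT ω x t) (w : List Nat) :
    valHom ω (prodw (gc2 x t) w) = toMat F ω (evR w) := by
  induction w with
  | nil =>
    have e : evR [] = ONE := rfl
    rw [prodw, map_one, e, toMat_ONE]
  | cons l w ih =>
    have e : evR (l :: w) = mul4 (evR w) (gcode l) := rfl
    rw [prodw, map_mul, ih, valHom_gc2 H, e, toMat_mul4 F ω hω]

include hω h0 h1 in
/-- the relators evaluate to central elements of `3.J₃`. -/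
theorem rel_mem_center {x t : threeJ3 F ω} (H : XT ω x t) (w : List Nat) (hw : w ∈ relsC) :
    prodw (gc2 x t) w ∈ Subgroup.center (threeJ3 F ω) := by
  rw [mem_center_iff ω hω h0 h1]
  have h := List.all_eq_true.mp relsC_scalar w hw
  unfold isScal at h
  have hv := valHom_prodw hω H w
  unfold IsScalarElt
  rw [hv]
  simp only [Bool.or_eq_true, beq_iff_eq] at h
  rcases h with (h | h) | h
  · left; rw [h]
  · right; left; rw [h]
  · right; right; rw [h]

/-- the image of an element of `3.J₃` in `J₃`. -/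
noncomputable def toJ3 (F : Type u) [Field F] (ω : F) : threeJ3 F ω →* J3 F ω :=
  QuotientGroup.mk' (Subgroup.center (threeJ3 F ω))

include hω h0 h1 in
theorem hrel {x t : threeJ3 F ω} (H : XT ω x t) :
    ∀ w ∈ relsC, prodw (gc2 (toJ3 F ω x) (toJ3 F ω t)) w = 1 := by
  intro w hw
  rw [← map_prodw]
  exact (QuotientGroup.eq_one_iff _).mpr (rel_mem_center hω h0 h1 H w hw)

include hω h0 h1 in
/-- the images of `x`, `t` generate `J₃`. -/
theorem closure_xt {x t : threeJ3 F ω} (H : XT ω x t) :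
    Subgroup.closure {toJ3 F ω x, toJ3 F ω t} = (⊤ : Subgroup (J3 F ω)) := by
  obtain ⟨X, Y, hX, hY, hXY⟩ := exists_XY ω hω
  obtain ⟨z, hz, hzc, -, -⟩ := exists_Z ω hω h0 h1
  have hsurj : Function.Surjective (toJ3 F ω) := QuotientGroup.mk'_surjective _
  -- X and Y * z are words in x, t
  have eX : prodw (gc2 x t) wX = X := by
    apply valHom_injective ω
    rw [valHom_prodw hω H, wX_eq, hX]
  have eY : prodw (gc2 x t) wY = Y * z := by
    apply valHom_injective ω
    rw [valHom_prodw hω H, wY_eq, map_mul, hY, hz, toMat_mul4 F ω hω]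
  have hzJ : toJ3 F ω z = 1 := (QuotientGroup.eq_one_iff _).mpr hzc
  have hXm : toJ3 F ω X ∈ Subgroup.closure {toJ3 F ω x, toJ3 F ω t} := by
    rw [← eX, map_prodw]
    exact prodw_mem_closure _ _ _
  have hYm : toJ3 F ω Y ∈ Subgroup.closure {toJ3 F ω x, toJ3 F ω t} := by
    have : toJ3 F ω Y = toJ3 F ω (Y * z) := by rw [map_mul, hzJ, mul_one]
    rw [this, ← eY, map_prodw]
    exact prodw_mem_closure _ _ _
  rw [eq_top_iff]
  intro g _
  obtain ⟨g', rfl⟩ := hsurj g
  have hg' : g' ∈ Subgroup.closure {X, Y} := by rw [hXY]; trivial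
  have : Subgroup.closure {X, Y} ≤ (Subgroup.closure {toJ3 F ω x, toJ3 F ω t}).comap (toJ3 F ω) := by
    rw [Subgroup.closure_le]
    intro a ha
    rcases ha with rfl | ha
    · exact hXm
    · rw [Set.mem_singleton_iff] at ha
      rw [ha]; exact hYm
  exact this hg'

end field

end Cfsg.Agent.Helper10.SchJ3.Conc
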