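import Mathlib

import Cfsg.Agent.Helper10.SchJ3.Facts
import Cfsg.Agent.Helper19.Schur.Cover
import Cfsg.Agent.Helper19.Schur.FinSum

/-! The upper half for the Schur multiplier of J3: instance of the labelled Todd–Coxeter
pipeline, and the lattice computations. (generated) -/

set_option autoImplicit false
set_option linter.all false
set_option maxRecDepth 100000
set_option maxHeartbeats 0

namespace Cfsg.Agent.Helper10.SchJ3

open Cfsg Cfsg.Agent.Helper19.TCS Cfsg.Agent.Helper19.TCL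
  Cfsg.Agent.Helper19.Schur

universe u

theorem invF_eq : ∀ l, l < 4 → invF l = inv4 l := by
  intro l hl
  interval_cases l <;> rfl

theorem prodw_replicate {Δ : Type*} [Group Δ] (gc : ℕ → Δ) (l n : ℕ) :
    prodw gc (List.replicate n l) = gc l ^ n := by
  induction n with
  | zero => simp [prodw]
  | succ n ih => rw [List.replicate_succ, prodw, ih, pow_succ]

theorem hcen_of_trivial {Δ : Type u} [Group Δ] (a b : Δ)
    (h : ∀ w ∈ rels, prodw (gc2 a b) w = 1) :
    ∀ ρ g, Commute (prodw (gc2 a b) (rels.getD ρ [])) g := by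
  intro ρ g
  have : prodw (gc2 a b) (rels.getD ρ []) = 1 :=
    forall_getD_of_forall_mem (fun w => prodw (gc2 a b) w = 1) rels [] h rfl ρ
  rw [this]
  exact Commute.one_left g

theorem closedL' {Δ : Type u} [Group Δ] (a b : Δ)
    (hcen : ∀ ρ g, Commute (prodw (gc2 a b) (rels.getD ρ [])) g) :
    SemL 2643840 4 8388608 10 4194304 65536 32768 13164039597121264319596854804771186921786259070306339919004467200 invF 100 rotsF subsF
        (gc2 a b) (iotaC (gfam a b rels 10) (gfam_comm a b rels 10 hcen)) (genC 10) ∧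
      ∀ i l, i < 2643840 → l < 4 →
        FactL (gc2 a b) (iotaC (gfam a b rels 10) (gfam_comm a b rels 10 hcen)) (genC 10)
          2643840 4194304 4503599627370496 10 4194304 65536 32768 ent parF pletF i l :=
  closedL (gc2 a b) _ (genC 10) (gc2_invF a b invF invF_eq)
    (bridge_rels a b rels 10 (by decide) hcen) (bridge_subs a b rels 10 (by norm_num) hcen)

theorem hT1 (Δ : Type u) [Group Δ] (a b : Δ)
    (hgen : Subgroup.closure {a, b} = (⊤ : Subgroup Δ))
    (hrel : ∀ w ∈ rels, prodw (gc2 a b) w = 1) : Finite Δ ∧ Nat.card Δ ≤ 50232960 := by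
  have hcen := hcen_of_trivial a b hrel
  obtain ⟨S, hcl⟩ := closedL' a b hcen
  have ha : a ^ 19 = 1 := by
    have h1 := hrel (List.replicate 19 0) (by decide)
    rw [prodw_replicate] at h1
    exact h1
  have hι : ∀ c, iotaC (gfam a b rels 10) (gfam_comm a b rels 10 hcen) c ∈ Subgroup.zpowers a := by
    intro c
    apply iotaC_mem
    intro i
    unfold gfam
    split_ifs with h
    · exact Subgroup.mem_zpowers a
    · have : prodw (gc2 a b) (rels.getD ((i : ℕ) - 1) []) = 1 :=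
        forall_getD_of_forall_mem (fun w => prodw (gc2 a b) w = 1) rels [] hrel rfl _
      rw [this]
      exact one_mem _
  have := card_le_of_factL a b hgen _ (genC 10) S hcl 19 (by norm_num) ha hι
  exact this

/-- the relations among the relator symbols found by the faces. -/
def lam : Fin 8 → Fin 10 → ℤ :=
  ![![0, 0, 0, 0, 1, 0, 0, -1, 0, 0],
    ![0, 0, 0, 0, 0, -2, 1, 0, 1, 0],
    ![0, 0, 0, 0, 0, -1, 0, -1, 2, 0],
    ![0, 0, 3, 0, -1, 0, 0, 0, 0, 0],
    ![0, 0, -1, 0, -1, -1, 0, 0, 0, 2],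
    ![0, 0, 0, -3, 0, 0, 0, 0, 0, 3],
    ![19, -1, 0, 0, 0, 0, 0, 0, 0, 0],
    ![0, -6, -2, -5, -4, 5, 3, 0, 1, 4]]

theorem hT2 (Δ : Type u) [Group Δ] (a b : Δ)
    (hcen : ∀ ρ g, Commute (prodw (gc2 a b) (rels.getD ρ [])) g) (j : Fin 8) :
    Psi (gfam a b rels 10) (gfam_comm a b rels 10 hcen) (lam j) = 1 := by
  have hinv := gc2_invF a b invF invF_eq
  have hrels := bridge_rels a b rels 10 (by decide) hcen
  have hsubs := bridge_subs a b rels 10 (by norm_num) hcen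
  fin_cases j
  · exact psi_eq_one_of_face _ _ 32768 2 [65536, 65536, 65537, 65536, 65537, 65536, 65536, 65535, 65536, 65536] rfl
      ⟨2, by norm_num⟩ _ (face0 (gc2 a b) _ (genC 10) hinv hrels hsubs) (by decide +kernel)
  · exact psi_eq_one_of_face _ _ 32768 2 [65536, 65536, 65537, 65536, 65536, 65534, 65537, 65536, 65537, 65536] rfl
      ⟨2, by norm_num⟩ _ (face1 (gc2 a b) _ (genC 10) hinv hrels hsubs) (by decide +kernel)
  · exact psi_eq_one_of_face _ _ 32768 2 [65536, 65536, 65537, 65536, 65536, 65535, 65536, 65535, 65538, 65536] rfl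
      ⟨2, by norm_num⟩ _ (face2 (gc2 a b) _ (genC 10) hinv hrels hsubs) (by decide +kernel)
  · exact psi_eq_one_of_face _ _ 32768 2 [65536, 65536, 65540, 65536, 65535, 65536, 65536, 65536, 65536, 65536] rfl
      ⟨2, by norm_num⟩ _ (face3 (gc2 a b) _ (genC 10) hinv hrels hsubs) (by decide +kernel)
  · exact psi_eq_one_of_face _ _ 32768 2 [65536, 65536, 65536, 65536, 65535, 65535, 65536, 65536, 65536, 65538] rfl
      ⟨2, by norm_num⟩ _ (face4 (gc2 a b) _ (genC 10) hinv hrels hsubs) (by decide +kernel)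
  · exact psi_eq_one_of_face _ _ 32768 2 [65536, 65536, 65537, 65533, 65536, 65536, 65536, 65536, 65536, 65539] rfl
      ⟨2, by norm_num⟩ _ (face5 (gc2 a b) _ (genC 10) hinv hrels hsubs) (by decide +kernel)
  · exact psi_eq_one_of_face _ _ 32768 19 [622611, 622592, 622592, 622592, 622592, 622592, 622592, 622592, 622592, 622592] rfl
      ⟨1, by norm_num⟩ _ (face6 (gc2 a b) _ (genC 10) hinv hrels hsubs) (by decide +kernel)
  · exact psi_eq_one_of_face _ _ 32768 23 [753664, 753658, 753662, 753659, 753660, 753669, 753667, 753664, 753666, 753668] rfl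
      ⟨8, by norm_num⟩ _ (face7 (gc2 a b) _ (genC 10) hinv hrels hsubs) (by decide +kernel)

/-! ### The lattice data -/

def e1 : Fin 10 → ℤ := ![0, 19, 0, 6, 0, 12, 18, 0, 6, 6]
def e2 : Fin 10 → ℤ := ![0, 0, 2, 6, 6, 4, 3, 6, 5, 6]
def c1 : Fin 10 → ℤ := ![0, 1, 1, 1, 0, 0, -1, 0, -1, 0]
def c2 : Fin 10 → ℤ := ![0, 0, -2, 0, 6, -2, 1, -5, 2, -1]
def g0 : Fin 10 → ℤ := ![0, 0, 0, -1, 0, 0, 0, 0, 0, 1]

theorem he1 : ∀ c : Fin 10, e1 c = if (c : ℕ) = 0 then 0 else es0 (rels.getD ((c : ℕ) - 1) []) := by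
  decide +kernel

theorem he2 : ∀ c : Fin 10, e2 c = if (c : ℕ) = 0 then 0 else es1 (rels.getD ((c : ℕ) - 1) []) := by
  decide +kernel

theorem Efun_eq (e v : Fin 10 → ℤ) : Efun e v =
    v 0 * e 0 + v 1 * e 1 + v 2 * e 2 + v 3 * e 3 + v 4 * e 4 + v 5 * e 5 + v 6 * e 6 + v 7 * e 7 + v 8 * e 8 + v 9 * e 9 := by
  unfold Efun
  rw [sum_univ_ten]

theorem hc1 : (∀ c : Fin 10, (c : ℕ) = 0 → c1 c = 0) ∧ Efun e1 c1 = 1 ∧ Efun e2 c1 = 0 := by
  refine ⟨by decide, ?_, ?_⟩ <;> rw [Efun_eq] <;> decide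

theorem hc2 : (∀ c : Fin 10, (c : ℕ) = 0 → c2 c = 0) ∧ Efun e1 c2 = 0 ∧ Efun e2 c2 = 1 := by
  refine ⟨by decide, ?_, ?_⟩ <;> rw [Efun_eq] <;> decide

theorem hg0 : ∀ c : Fin 10, (c : ℕ) = 0 → g0 c = 0 := by decide

theorem hL1 : ∀ v : Fin 10 → ℤ, (∀ c : Fin 10, (c : ℕ) = 0 → v c = 0) → Efun e1 v = 0 →
    Efun e2 v = 0 → ∃ (cf : Fin 8 → ℤ) (t : ℤ), v = ∑ j, cf j • lam j + t • g0 := by
  intro v h0 h1 h2
  have h0' : v 0 = 0 := h0 0 rfl
  rw [Efun_eq] at h1 h2
  simp only [e1, e2, Matrix.cons_val_zero, Matrix.cons_val_one, Matrix.cons_val] at h1 h2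
  refine ⟨![(-3) * v 1 + (1) * v 2 + (2) * v 3 + (3) * v 4 + (-1) * v 6 + (2) * v 7 + (1) * v 8 + (2) * v 9,
      (-9) * v 1 + (-3) * v 3 + (-6) * v 5 + (-8) * v 6 + (-3) * v 8 + (-3) * v 9,
      (3) * v 1 + (-1) * v 2 + (-2) * v 3 + (-3) * v 4 + (1) * v 6 + (-3) * v 7 + (-1) * v 8 + (-2) * v 9,
      (-7) * v 1 + (2) * v 2 + (3) * v 3 + (5) * v 4 + (-1) * v 5 + (-4) * v 6 + (5) * v 7 + (2) * v 8 + (3) * v 9,
      (11) * v 1 + (-1) * v 2 + (1) * v 3 + (-3) * v 4 + (5) * v 5 + (9) * v 6 + (-3) * v 7 + (1) * v 8 + (1) * v 9,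
      (-6) * v 1 + (-2) * v 3 + (-4) * v 5 + (-6) * v 6 + (-2) * v 8 + (-2) * v 9,
      0,
      (3) * v 1 + (1) * v 3 + (2) * v 5 + (3) * v 6 + (1) * v 8 + (1) * v 9],
    (-16) * v 1 + (2) * v 2 + (6) * v 4 + (-6) * v 5 + (-12) * v 6 + (6) * v 7 + (1) * v 9, ?_⟩
  funext c
  rw [Fin.sum_univ_eight]
  fin_cases c
  · simp [lam, g0] <;> linear_combination (0) * h1 + (0) * h2 + (1) * h0'
  · simp [lam, g0] <;> linear_combination (1) * h1 + (0) * h2 + (0) * h0'
  · simp [lam, g0] <;> linear_combination (2) * h1 + (-3) * h2 + (0) * h0'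
  · simp [lam, g0] <;> linear_combination (-1) * h1 + (1) * h2 + (0) * h0'
  · simp [lam, g0] <;> linear_combination (1) * h1 + (0) * h2 + (0) * h0'
  · simp [lam, g0] <;> linear_combination (-1) * h1 + (-1) * h2 + (0) * h0'
  · simp [lam, g0] <;> linear_combination (0) * h1 + (0) * h2 + (0) * h0'
  · simp [lam, g0] <;> linear_combination (0) * h1 + (0) * h2 + (0) * h0'
  · simp [lam, g0] <;> linear_combination (0) * h1 + (1) * h2 + (0) * h0'
  · simp [lam, g0] <;> linear_combination (0) * h1 + (0) * h2 + (0) * h0'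

theorem hL2 : ∃ cf : Fin 8 → ℤ, ((3 : ℕ) : ℤ) • g0 = ∑ j, cf j • lam j := by
  refine ⟨![0, 0, 0, 0, 0, 1, 0, 0], ?_⟩
  funext c
  rw [Fin.sum_univ_eight]
  fin_cases c <;> simp [lam, g0]

end Cfsg.Agent.Helper10.SchJ3
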