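import Mathlib
import Cfsg.Agent.Helper10.SchJ3.Inst
import Cfsg.Agent.Helper10.SchJ3.Conc
import Cfsg.Agent.Helper19.Schur.Stem

/-! The Schur multiplier of `J₃` is cyclic of order 3: the lower half is the concrete stem extension
`3.J₃ → J₃` (helper14's facts on the centre and the commutator subgroup), the upper half is helper19's
labelled Todd–Coxeter certificate over the subgroup of order 19 generated by `x`. -/

set_option autoImplicit false
set_option linter.all false
set_option maxRecDepth 100000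
set_option maxHeartbeats 0

namespace Cfsg.Agent.Helper10.SchJ3

open Cfsg Cfsg.Spor Cfsg.Agent.Helper14.J3 Cfsg.Agent.Helper19.TCS Cfsg.Agent.Helper19.TCL
  Cfsg.Agent.Helper19.Schur

theorem rels_eq : rels = Conc.relsC := by decide

section field

universe u

variable {F : Type u} [Field F] [CharP F 2] [Finite F] (ω : F) (hω : ω * ω = ω + 1)
variable (h0 : ω ≠ 0) (h1 : ω ≠ 1)

include hω h0 h1 in
theorem stem_toJ3 : Cfsg.IsStemExtension (Conc.toJ3 F ω) := by
  have hk : (Conc.toJ3 F ω).ker = Subgroup.center (threeJ3 F ω) := QuotientGroup.ker_mk' _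
  refine ⟨QuotientGroup.mk'_surjective _, ?_, ?_⟩
  · rw [hk]
  · rw [commutator_eq_top ω hω]
    exact le_top

include hω h0 h1 in
theorem schur_J3 : Cfsg.HasCyclicSchurMultiplier (J3 F ω) 3 := by
  have hcard : Nat.card (J3 F ω) = 50232960 := card_J3 ω hω h0 h1
  have hfin : Finite (J3 F ω) := Nat.finite_of_card_ne_zero (by rw [hcard]; norm_num)
  have hfin3 : Finite (threeJ3 F ω) :=
    Nat.finite_of_card_ne_zero (by rw [card_eq ω hω h0 h1]; norm_num)
  obtain ⟨x, t, H⟩ := Conc.exists_xt ω hω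
  have hT1' : ∀ (Δ : Type u) [Group Δ] (a b : Δ), Subgroup.closure {a, b} = (⊤ : Subgroup Δ) →
      (∀ w ∈ rels, prodw (gc2 a b) w = 1) → Finite Δ ∧ Nat.card Δ ≤ Nat.card (J3 F ω) := by
    intro Δ _ a b h1 h2
    rw [hcard]
    exact hT1 Δ a b h1 h2
  refine ⟨?_, ?_⟩
  · have hk : (Conc.toJ3 F ω).ker = Subgroup.center (threeJ3 F ω) := QuotientGroup.ker_mk' _
    have hc3 : Nat.card (Conc.toJ3 F ω).ker = 3 := by
      rw [hk]; exact card_center ω hω h0 h1
    have hp3 : Fact (Nat.Prime 3) := ⟨by norm_num⟩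
    have hcyc : IsCyclic (Conc.toJ3 F ω).ker := isCyclic_of_prime_card hc3
    have e := zmodCyclicMulEquiv hcyc
    rw [hc3] at e
    exact ⟨threeJ3 F ω, inferInstance, hfin3, Conc.toJ3 F ω, stem_toJ3 ω hω h0 h1, ⟨e.symm⟩⟩
  · exact exists_surjective_of_stem (Conc.toJ3 F ω x) (Conc.toJ3 F ω t)
      (Conc.closure_xt hω h0 h1 H) rels 10 (by decide)
      (by rw [rels_eq]; exact Conc.hrel hω h0 h1 H) hT1' 8 lam hT2
      e1 e2 he1 he2 c1 c2 g0 3 hc1 hc2 hg0 hL1 hL2

end field

end Cfsg.Agent.Helper10.SchJ3
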